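import Groth.Agent.H22.Nil
import Groth.Agent.H54.ThickAffine
import Groth.Agent.Lib.DescAlg.FpqcCover
import Mathlib.AlgebraicGeometry.Morphisms.Flat
import Mathlib.CategoryTheory.Comma.Over.Pullback

/-!
A morphism to a scheme is an isomorphism when it is one modulo a nilpotent ideal of the base and the source is flat.
-/

set_option autoImplicit false
set_option backward.isDefEq.respectTransparency false
set_option backward.isDefEq.respectTransparency.types false

universe u

open CategoryTheory CategoryTheory.Limits AlgebraicGeometry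
open scoped TensorProduct

namespace Groth.Agent.Lib.NilGrp

variable {R : Type u} [CommRing R] (I : Ideal R)

theorem bijective_of_mod (hI : IsNilpotent I) {C D : Type u} [CommRing C] [CommRing D] [Algebra R C] [Algebra R D]
    [Module.Flat R D] (φ : C →ₐ[R] D)
    (h : letI := φ.toRingHom.toAlgebra
      Function.Bijective (fun q : C ⧸ I.map (algebraMap R C) => q ⊗ₜ[C] (1 : D))) : Function.Bijective φ := by
  letI := φ.toRingHom.toAlgebra
  let J := I.map (algebraMap R C)
  have hJ : ∀ d : D, d ∈ I • (⊤ : Submodule R D) ↔ (1 : C ⧸ J) ⊗ₜ[C] d = 0 := by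
    intro d
    have e : (1 : C ⧸ J) ⊗ₜ[C] d = 0 ↔ d ∈ J • (⊤ : Submodule C D) := by
      rw [← (TensorProduct.quotTensorEquivQuotSMul D J).map_eq_zero_iff,
        show TensorProduct.quotTensorEquivQuotSMul D J ((1 : C ⧸ J) ⊗ₜ[C] d) = Submodule.Quotient.mk d by
          rw [show (1 : C ⧸ J) = Ideal.Quotient.mk J 1 from rfl, TensorProduct.quotTensorEquivQuotSMul_mk_tmul, one_smul],
        Submodule.Quotient.mk_eq_zero]
    rw [e, Ideal.smul_top_eq_map, Ideal.smul_top_eq_map, Submodule.restrictScalars_mem, Submodule.restrictScalars_mem,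
      Ideal.map_map, show (algebraMap C D).comp (algebraMap R C) = algebraMap R D from φ.comp_algebraMap]
  have hφ : ∀ c : C, (Ideal.Quotient.mk J c) ⊗ₜ[C] (1 : D) = (1 : C ⧸ J) ⊗ₜ[C] φ c := by
    intro c
    have e : (φ c : D) = c • (1 : D) := by rw [Algebra.smul_def, mul_one]; rfl
    rw [e, ← TensorProduct.smul_tmul]
    congr 1
    rw [Algebra.smul_def, mul_one]; rfl
  have hsurj : Function.Surjective φ.toLinearMap := by
    rw [← LinearMap.range_eq_top]
    refine H22.Nil.top_le_of_le_sup_smul hI fun d _ => ?_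
    obtain ⟨q, hq⟩ := h.2 ((1 : C ⧸ J) ⊗ₜ[C] d)
    obtain ⟨c, rfl⟩ := Ideal.Quotient.mk_surjective q
    have hq' : (1 : C ⧸ J) ⊗ₜ[C] (d - φ c) = 0 := by
      rw [TensorProduct.tmul_sub, ← hφ, ← hq]
      exact sub_self _
    rw [← add_sub_cancel (φ c) d]
    exact Submodule.add_mem_sup ⟨c, rfl⟩ ((hJ _).2 hq')
  refine H22.Nil.bijective_of_lTensor hI φ.toLinearMap ⟨?_, LinearMap.lTensor_surjective _ hsurj⟩
  rw [injective_iff_map_eq_zero]
  intro x hx
  obtain ⟨c, rfl⟩ := TensorProduct.mk_surjective R C (R ⧸ I) Ideal.Quotient.mk_surjective x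
  have hd : φ c ∈ I • (⊤ : Submodule R D) := by
    have h0 := congrArg (TensorProduct.quotTensorEquivQuotSMul D I) hx
    rw [map_zero, TensorProduct.mk_apply, LinearMap.lTensor_tmul, show (1 : R ⧸ I) = Ideal.Quotient.mk I 1 from rfl,
      TensorProduct.quotTensorEquivQuotSMul_mk_tmul, one_smul, Submodule.Quotient.mk_eq_zero] at h0
    exact h0
  have hq : Ideal.Quotient.mk J c = 0 := h.1 (by
    show Ideal.Quotient.mk J c ⊗ₜ[C] (1 : D) = (0 : C ⧸ J) ⊗ₜ[C] (1 : D)
    rw [hφ, (hJ _).1 hd, TensorProduct.zero_tmul])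
  apply (TensorProduct.quotTensorEquivQuotSMul C I).injective
  rw [map_zero, TensorProduct.mk_apply, show (1 : R ⧸ I) = Ideal.Quotient.mk I 1 from rfl,
    TensorProduct.quotTensorEquivQuotSMul_mk_tmul, one_smul, Submodule.Quotient.mk_eq_zero, Ideal.smul_top_eq_map,
    Submodule.restrictScalars_mem]
  exact Ideal.Quotient.eq_zero_iff_mem.1 hq

theorem isIso_of_pullback (hI : IsNilpotent I) {Y Z : Over (Spec (CommRingCat.of R))} [Flat Y.hom] (f : Y ⟶ Z)
    (h : IsIso ((Over.pullback (Spec.map (CommRingCat.ofHom (Ideal.Quotient.mk I)))).map f)) : IsIso f := by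
  let i := Spec.map (CommRingCat.ofHom (Ideal.Quotient.mk I))
  let f₀ := ((Over.pullback i).map f).left
  have : IsIso ((Over.pullback i).map f) := h
  have : IsIso f₀ := (Over.forget _).map_isIso ((Over.pullback i).map f)
  have : IsClosedImmersion i := IsClosedImmersion.spec_of_surjective _ Ideal.Quotient.mk_surjective
  have : Surjective i := ⟨fun p => by
    have h : p ∈ Set.range (PrimeSpectrum.comap (Ideal.Quotient.mk I)) := by
      rw [range_comap_of_surjective _ _ Ideal.Quotient.mk_surjective, PrimeSpectrum.mem_zeroLocus, Ideal.mk_ker]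
      intro x hx
      obtain ⟨n, hn⟩ := hI
      exact p.isPrime.mem_of_pow_mem n (by
        have := Ideal.pow_mem_pow hx n; rw [hn] at this; rw [(Submodule.mem_bot R).1 this]; exact zero_mem _)
    exact h⟩
  have w : pullback.fst Y.hom i ≫ f.left = f₀ ≫ pullback.fst Z.hom i := by
    simp [f₀]
  have : IsAffineHom f.left := (H54.ThickAffine.isAffineHom_iff w).1 inferInstance
  have sq : IsPullback (pullback.fst Y.hom i) f₀ f.left (pullback.fst Z.hom i) := by
    refine IsPullback.of_bot ?_ w (IsPullback.of_hasPullback Z.hom i)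
    have h2 : f₀ ≫ pullback.snd Z.hom i = pullback.snd Y.hom i := by simp [f₀]
    rw [h2, Over.w f]
    exact IsPullback.of_hasPullback Y.hom i
  suffices IsIso f.left by
    have : IsIso ((Over.forget _).map f) := this
    exact isIso_of_reflects_iso f (Over.forget _)
  have key : ∀ V : Z.left.affineOpens, IsIso (f.left ∣_ V.1) := by
    intro V
    have hU : IsAffineOpen (f.left ⁻¹ᵁ V.1) := V.2.preimage f.left
    letI : Algebra R Γ(Z.left, V.1) := (Spec.preimage (V.2.fromSpec ≫ Z.hom)).hom.toAlgebra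
    let φ₀ : Γ(Z.left, V.1) ⟶ Γ(Y.left, f.left ⁻¹ᵁ V.1) := f.left.app V.1
    letI : Algebra R Γ(Y.left, f.left ⁻¹ᵁ V.1) := (φ₀.hom.comp (algebraMap R Γ(Z.left, V.1))).toAlgebra
    let φ : Γ(Z.left, V.1) →ₐ[R] Γ(Y.left, f.left ⁻¹ᵁ V.1) := { φ₀.hom with commutes' := fun r => rfl }
    have hsq : Spec.map φ₀ ≫ V.2.fromSpec = hU.fromSpec ≫ f.left := by
      rw [show φ₀ = f.left.appLE V.1 (f.left ⁻¹ᵁ V.1) le_rfl from (f.left.appLE_eq_app).symm]
      exact V.2.SpecMap_appLE_fromSpec f.left hU le_rfl
    have hV : V.2.fromSpec ≫ Z.hom = Spec.map (CommRingCat.ofHom (algebraMap R Γ(Z.left, V.1))) :=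
      (Spec.map_preimage _).symm
    have : Module.Flat R Γ(Y.left, f.left ⁻¹ᵁ V.1) := by
      have : Flat (hU.fromSpec ≫ Y.hom) := inferInstance
      rw [← Over.w f, ← Category.assoc, ← hsq, Category.assoc, hV, ← Spec.map_comp] at this
      exact (HasRingHomProperty.Spec_iff (P := @Flat)).1 this
    suffices hb : Function.Bijective φ by
      have : IsIso φ₀ := (ConcreteCategory.isIso_iff_bijective φ₀).2 hb
      have e : hU.isoSpec.hom ≫ Spec.map φ₀ = (f.left ∣_ V.1) ≫ V.2.isoSpec.hom := by
        rw [← cancel_mono V.2.fromSpec, Category.assoc, Category.assoc, hsq, IsAffineOpen.isoSpec_hom_fromSpec,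
          ← Category.assoc, IsAffineOpen.isoSpec_hom_fromSpec, morphismRestrict_ι]
      rw [← IsIso.comp_inv_eq] at e
      rw [← e]
      infer_instance
    refine bijective_of_mod I hI φ ?_
    letI := φ.toRingHom.toAlgebra
    let C := Γ(Z.left, V.1)
    let J := I.map (algebraMap R C)
    let a : Spec (CommRingCat.of (C ⧸ J)) ⟶ Spec C := Spec.map (CommRingCat.ofHom (Ideal.Quotient.mk J))
    let ψ : R ⧸ I →+* C ⧸ J := Ideal.quotientMap J (algebraMap R C) Ideal.le_comap_map
    let k' : Spec (CommRingCat.of (C ⧸ J)) ⟶ pullback Z.hom i :=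
      pullback.lift (a ≫ V.2.fromSpec) (Spec.map (CommRingCat.ofHom ψ)) (by
        rw [Category.assoc, hV, ← Spec.map_comp, ← Spec.map_comp]
        rfl)
    have h1 : IsIso (pullback.snd f.left (a ≫ V.2.fromSpec)) := by
      have : IsIso (pullback.snd f.left (pullback.fst Z.hom i)) := by
        rw [← sq.isoPullback_inv_snd]; infer_instance
      rw [show a ≫ V.2.fromSpec = k' ≫ pullback.fst Z.hom i from (pullback.lift_fst _ _ _).symm]
      exact (DescAlg.FpqcCover.snd_iff (MorphismProperty.isomorphisms Scheme.{u}) f.left _ k').1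
        (inferInstanceAs (IsIso (pullback.snd (pullback.snd f.left (pullback.fst Z.hom i)) k')))
    have sq' : IsPullback hU.fromSpec (Spec.map φ₀) f.left V.2.fromSpec := by
      refine IsPullback.of_iso (isPullback_morphismRestrict f.left V.1).flip hU.isoSpec (Iso.refl _) V.2.isoSpec
        (Iso.refl _) ?_ ?_ (by simp) ?_
      · simp [IsAffineOpen.isoSpec_hom_fromSpec]
      · rw [← cancel_mono V.2.fromSpec, Category.assoc, Category.assoc, hsq, IsAffineOpen.isoSpec_hom_fromSpec,
          ← Category.assoc, IsAffineOpen.isoSpec_hom_fromSpec, morphismRestrict_ι]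
      · simp [IsAffineOpen.isoSpec_hom_fromSpec]
    have h2 : IsIso (pullback.snd (Spec.map φ₀) a) := by
      have h1' := (DescAlg.FpqcCover.snd_iff (MorphismProperty.isomorphisms Scheme.{u}) f.left V.2.fromSpec a).2 h1
      have e : pullback.snd (Spec.map φ₀) a =
          pullback.map _ _ _ _ sq'.isoPullback.hom (𝟙 _) (𝟙 _) (by simp) (by simp) ≫
            pullback.snd (pullback.snd f.left V.2.fromSpec) a := by simp
      have : IsIso (pullback.snd (pullback.snd f.left V.2.fromSpec) a) := h1'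
      rw [e]
      infer_instance
    let g : CommRingCat.of (C ⧸ J) ⟶ CommRingCat.of ((C ⧸ J) ⊗[C] Γ(Y.left, f.left ⁻¹ᵁ V.1)) :=
      CommRingCat.ofHom Algebra.TensorProduct.includeLeftRingHom
    have hg : IsIso (Spec.map g) := by
      have h3 := pullbackSpecIso_inv_fst C (C ⧸ J) Γ(Y.left, f.left ⁻¹ᵁ V.1)
      rw [show Spec.map g = (pullbackSpecIso C (C ⧸ J) Γ(Y.left, f.left ⁻¹ᵁ V.1)).inv ≫
        (pullbackSymmetry _ _).hom ≫ pullback.snd (Spec.map φ₀) a from by
          erw [pullbackSymmetry_hom_comp_snd]; exact h3.symm]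
      infer_instance
    have : IsIso g := by
      have : IsIso (Scheme.Spec.map g.op) := hg
      have : IsIso g.op := isIso_of_reflects_iso g.op Scheme.Spec
      exact isIso_of_op _
    exact ConcreteCategory.bijective_of_isIso g
  exact (IsZariskiLocalAtTarget.iff_of_iSup_eq_top (P := MorphismProperty.isomorphisms Scheme.{u})
    (fun V : Z.left.affineOpens => V.1) (iSup_affineOpens_eq_top Z.left)).2 key

end Groth.Agent.Lib.NilGrp
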